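import Groth.Agent.Snapper.Multi
import Groth.Agent.CycLib.StalkSES
import Groth.Agent.H23.ClosedPushLen
import Groth.Agent.QCoh.DevissageP
import Groth.Agent.SheafHomX.Coherent

/-!
# Euler characteristics of twists modulo lower dimensional terms

Modulo polynomials of degree below `d`, the Euler characteristics of the twists of a coherent module
whose support has dimension at most `d` are the sum over the `d`-dimensional points of the support of
the lengths times those of the reduced closures.
-/

set_option linter.style.haveILetI false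
set_option linter.unusedSectionVars false
set_option backward.isDefEq.respectTransparency false
set_option backward.isDefEq.respectTransparency.types false

universe u

open CategoryTheory CategoryTheory.Limits AlgebraicGeometry TopologicalSpace Opposite

noncomputable section

namespace Groth.Agent.Snapper

open Groth.Agent

variable {X : Scheme.{u}}

/-- A closed irreducible subset of full dimension in an irreducible one is everything. -/
theorem eq_of_dim_eq {S T : Set X} (hS : IsClosed S) (hT : IsIrreducible T) (hST : S ⊆ T) {d : ℕ}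
    (hTd : topologicalKrullDim ↥T ≤ d) (hSd : topologicalKrullDim ↥S = d) : S = T := by
  by_contra hne
  haveI : IrreducibleSpace ↥T := isIrreducible_iff_irreducibleSpace.1 hT
  let Y : Set ↥T := Subtype.val ⁻¹' S
  have hY : Y ≠ Set.univ := fun h => hne (hST.antisymm fun x hx => h.ge (Set.mem_univ ⟨x, hx⟩))
  have hfin : topologicalKrullDim ↥T ≠ ⊤ := fun h => by
    rw [h] at hTd
    exact absurd (le_antisymm le_top hTd) (WithBot.coe_lt_coe.2 (ENat.natCast_lt_top d)).ne
  have hlt := H23.TopDim.dim_lt_of_ssubset hfin (hS.preimage continuous_subtype_val) hY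
  have hle : topologicalKrullDim ↥S ≤ topologicalKrullDim ↥Y := by
    let g : ↥S → ↥Y := fun p => ⟨⟨p.1, hST p.2⟩, p.2⟩
    have hcomp : Topology.IsInducing ((Subtype.val ∘ Subtype.val : ↥Y → X) ∘ g) :=
      show Topology.IsInducing (Subtype.val : ↥S → X) from Topology.IsInducing.subtypeVal
    exact ((Topology.IsInducing.subtypeVal.comp Topology.IsInducing.subtypeVal).of_comp_iff.1 hcomp).topologicalKrullDim_le
  exact absurd (hSd ▸ (hle.trans_lt hlt).trans_le hTd) (lt_irrefl _)

/-- The points of a closed subset whose closure has dimension `d`. -/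
def topPts (C : Closeds X) (d : ℕ) : Set X :=
  {ξ | ξ ∈ C ∧ topologicalKrullDim (closure ({ξ} : Set X)) = (d : WithBot ℕ∞)}

theorem finite_topPts [IsNoetherian X] {C : Closeds X} {d : ℕ} (hC : topologicalKrullDim ↥(C : Set X) ≤ d) :
    (topPts C d).Finite := by
  obtain ⟨S, hS, hScl, hSirr, hSC⟩ := NoetherianSpace.exists_finite_set_isClosed_irreducible C.isClosed
  refine Set.Finite.of_finite_image (hS.subset ?_) (f := fun ξ => closure ({ξ} : Set X))
    fun a _ b _ h => (inseparable_iff_closure_eq.2 h).eq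
  rintro _ ⟨ξ, ⟨hξC, hξd⟩, rfl⟩
  obtain ⟨t, htS, hξt⟩ := Set.mem_sUnion.1 (hSC ▸ hξC : ξ ∈ ⋃₀ S)
  show closure ({ξ} : Set X) ∈ S
  rw [show closure ({ξ} : Set X) = t from eq_of_dim_eq isClosed_closure (hSirr t htS)
    ((hScl t htS).closure_subset_iff.2 (Set.singleton_subset_iff.2 hξt))
    ((H23.TopDim.dim_le_dim_of_subset (hSC ▸ Set.subset_sUnion_of_mem htS)).trans hC) hξd]
  exact htS

theorem eq_of_specializes_topPts {C : Closeds X} {d : ℕ} (hC : topologicalKrullDim ↥(C : Set X) ≤ d)
    {ξ η : X} (hξ : ξ ∈ topPts C d) (hη : η ∈ C) (h : η ⤳ ξ) : η = ξ := by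
  have hsub : closure ({ξ} : Set X) ⊆ closure {η} :=
    isClosed_closure.closure_subset_iff.2 (Set.singleton_subset_iff.2 h.mem_closure)
  exact ((inseparable_iff_closure_eq.2 (eq_of_dim_eq isClosed_closure isIrreducible_singleton.closure hsub
    ((H23.TopDim.dim_le_dim_of_subset (C.isClosed.closure_subset_iff.2 (Set.singleton_subset_iff.2 hη))).trans hC)
    hξ.2)).eq).symm

/-- The structure sheaf of the reduced closure of a point. -/
abbrev clMod (ξ : X) : X.Modules :=
  ClSub.quotMod (Scheme.IdealSheafData.vanishingIdeal (⟨closure ({ξ} : Set X), isClosed_closure⟩ : Closeds X))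

variable (k : Type u) [Field k] [X.Over (Spec (CommRingCat.of k))]
  [IsProper (X ↘ Spec (CommRingCat.of k))] {r : ℕ} {L : Fin r → X.Modules}

/-- The length at a point. -/
def len (M : X.Modules) (ξ : X) : ℚ :=
  ((Module.length (X.presheaf.stalk ξ) (M.presheaf.stalk ξ)).toNat : ℚ)

theorem len_eq_zero {M : X.Modules} {ξ : X} (h : ξ ∉ CohB1.support M) : len M ξ = 0 := by
  haveI : Subsingleton (M.presheaf.stalk ξ) := not_not.1 h
  rw [len, Module.length_eq_zero, ENat.toNat_zero, Nat.cast_zero]

include k in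
theorem len_add {S : ShortComplex X.Modules} (hS : S.ShortExact) (h1 : Coh.IsCoh S.X₁) (h2 : Coh.IsCoh S.X₂)
    (h3 : Coh.IsCoh S.X₃) {C : Closeds X} {d : ℕ} (hC : topologicalKrullDim ↥(C : Set X) ≤ d)
    (hsupp : CohB1.support S.X₂ ⊆ C) {ξ : X} (hξ : ξ ∈ topPts C d) :
    len S.X₂ ξ = len S.X₁ ξ + len S.X₃ ξ := by
  haveI := CurveCohLib.isNoetherian_of_proper (k := k) (X := X)
  have e := CycLib.length_stalk_shortExact hS h1.1 h2.1 h3.1 ξ
  have hfin := CycLib.length_stalk_lt_top S.X₂ h2 (ξ := ξ) fun y hy hyx =>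
    eq_of_specializes_topPts hC hξ (hsupp (not_subsingleton_iff_nontrivial.2 hy)) hyx
  rw [e] at hfin
  have hlt := WithTop.add_ne_top.1 hfin.ne
  rw [len, len, len, e, ENat.toNat_add hlt.1 hlt.2, Nat.cast_add]

theorem len_push_structure {Z : Scheme.{u}} (i : Z ⟶ X) [IsClosedImmersion i] [IsIntegral Z] :
    len ((Coh.push i).obj (Coh.structureModule Z)) (i (genericPoint Z)) = 1 := by
  letI : Field (Z.presheaf.stalk (genericPoint Z)) := (Field.toIsField Z.functionField).toField
  rw [len, H23.ClosedPushLen.length_stalk, H23.ClosedPushLen.length_structureModule,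
    show Module.length (Z.presheaf.stalk (genericPoint Z)) (Z.presheaf.stalk (genericPoint Z)) = 1 from
      Module.length_eq_one_iff.2 inferInstance]
  rfl

/-- The Euler characteristics of the twists of `F` and of the closures of the top points of the support
differ by lower degree terms. -/
theorem isMPolyLt_sub_components (hL : ∀ i, PicF.IsInvertible (L i)) {F : X.Modules} (hF : Coh.IsCoh F)
    {C : Closeds X} {d : ℕ} (hC : topologicalKrullDim ↥(C : Set X) ≤ d) (hFC : CohB1.support F ⊆ C)
    (T : Finset X) (hT : ∀ ξ, ξ ∈ T ↔ ξ ∈ topPts C d) :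
    IsMPolyLt d fun n => χs k L F n - ∑ ξ ∈ T, len F ξ * χs k L (clMod ξ) n := by
  classical
  haveI := CurveCohLib.isNoetherian_of_proper (k := k) (X := X)
  let g : X.Modules → (Fin r → ℕ) → ℚ := fun M n => χs k L M n - ∑ ξ ∈ T, len M ξ * χs k L (clMod ξ) n
  let P : X.Modules → Prop := fun M => Coh.IsCoh M → IsMPolyLt d (g M)
  have hadd : ∀ S : ShortComplex X.Modules, S.ShortExact → Coh.IsCoh S.X₁ → Coh.IsCoh S.X₂ → Coh.IsCoh S.X₃ →
      CohB1.support S.X₂ ⊆ C → g S.X₂ = g S.X₁ + g S.X₃ := fun S hS h1 h2 h3 hs => funext fun n => by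
    show χs k L S.X₂ n - _ = (χs k L S.X₁ n - _) + (χs k L S.X₃ n - _)
    rw [congrFun (χs_add k hL hS h1 h2 h3) n, Pi.add_apply,
      Finset.sum_congr rfl (fun ξ hξ => by rw [len_add k hS h1 h2 h3 hC hs ((hT ξ).1 hξ), add_mul] :
        ∀ ξ ∈ T, len S.X₂ ξ * χs k L (clMod ξ) n =
          len S.X₁ ξ * χs k L (clMod ξ) n + len S.X₃ ξ * χs k L (clMod ξ) n), Finset.sum_add_distrib]
    ring
  refine QCoh.devissage P ?_ ?_ (C : Set X) ?_ ?_ ?_ hF hFC hF
  · rintro M N ⟨e⟩ hM hN
    refine (hM (SheafHomX.isCoh_of_iso e.symm hN)).congr fun n => ?_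
    show χs k L N n - _ = χs k L M n - _
    rw [χs_congr k e]
    congr 1
    refine Finset.sum_congr rfl fun ξ _ => ?_
    rw [len, len, (LinearEquiv.ofBijective (CycLib.stalkLin e.hom ξ) (ConcreteCategory.bijective_of_isIso
      ((TopCat.Presheaf.stalkFunctor _ ξ).map ((Scheme.Modules.toPresheaf X).map e.hom)))).length_eq]
  · intro M hM hMc
    have hs : CohB1.support M = ∅ := QCoh.support_eq_empty_of_isZero hM hMc.1
    refine ⟨0, degLt_zero d, fun n => ?_⟩
    simp [g, χs_eq_zero k hL hMc hs, fun ξ => len_eq_zero (M := M) (ξ := ξ) (by simp [hs])]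
  · intro S hS h1 h2 h3 hs p1 p3 _
    rw [hadd S hS h1 h2 h3 hs]
    exact (p1 h1).add (p3 h3)
  · intro ξ hξC _ Z i _ _ hr hZc
    have hξ' : i (genericPoint Z) = ξ :=
      (inseparable_iff_closure_eq.2 (by rw [← QCoh.range_eq_closure i, hr])).eq
    have hsupp : CohB1.support ((Coh.push i).obj (Coh.structureModule Z)) ⊆ closure {ξ} :=
      hr ▸ QCoh.support_push_subset i QCoh.isQCoh_structureModule
    have hdim : topologicalKrullDim ↥(closure ({ξ} : Set X)) ≤ d :=
      (H23.TopDim.dim_le_dim_of_subset hξC).trans hC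
    have hother : ∀ η ∈ T, η ≠ ξ → len ((Coh.push i).obj (Coh.structureModule Z)) η = 0 := fun η hη hne =>
      len_eq_zero fun hs => hne (eq_of_specializes_topPts hC ((hT η).1 hη) (hξC (subset_closure rfl))
        (specializes_iff_mem_closure.2 (hsupp hs))).symm
    by_cases hξT : ξ ∈ T
    · refine ⟨0, degLt_zero d, fun n => ?_⟩
      show χs k L _ n - _ = _
      rw [Finset.sum_eq_single ξ (fun η hη hne => by rw [hother η hη hne, zero_mul]) (fun h => absurd hξT h),
        show len ((Coh.push i).obj (Coh.structureModule Z)) ξ = 1 from hξ' ▸ len_push_structure i, one_mul]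
      let V := Scheme.IdealSheafData.vanishingIdeal (⟨closure ({ξ} : Set X), isClosed_closure⟩ : Closeds X)
      haveI : IsReduced V.subscheme := inferInstance
      obtain ⟨e⟩ := QCoh.push_structure_iso V.subschemeι i
        (hr.trans (H23.RedSub.range_vanishingIdeal (⟨closure ({ξ} : Set X), isClosed_closure⟩ : Closeds X)).symm)
      rw [χs_congr k e, sub_self, map_zero]
    · have hlt : topologicalKrullDim ↥(closure ({ξ} : Set X)) < (d : WithBot ℕ∞) :=
        lt_of_le_of_ne hdim fun h => hξT ((hT ξ).2 ⟨hξC (subset_closure rfl), h⟩)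
      refine (isMPolyLt_of_dim_lt k hL d ⟨_, isClosed_closure⟩ hlt _ hZc hsupp).congr fun n => ?_
      show χs k L _ n - _ = χs k L _ n
      rw [Finset.sum_eq_zero (fun η hη => by rw [hother η hη (fun h => hξT (h ▸ hη)), zero_mul]), sub_zero]
  · intro S hS h1 h2 h3 hs p2 p3 _
    exact ((p2 h2).sub (p3 h3)).congr fun n => by
      have := congrFun (hadd S hS h1 h2 h3 hs) n
      simp only [Pi.add_apply, Pi.sub_apply] at this ⊢
      linarith

/-- The coefficient of a monomial of degree `d` is insensitive to lower degree terms. -/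
theorem coeff_eq_zero_of_degLt {d : ℕ} {Q : MvPolynomial (Fin d) ℚ} (hQ : DegLt d Q) :
    MvPolynomial.coeff (Finsupp.equivFunOnFinite.symm fun _ : Fin d => 1) Q = 0 := by
  by_contra h
  have := hQ _ (MvPolynomial.mem_support_iff.2 h)
  rw [Finsupp.sum_fintype _ _ (fun _ => rfl)] at this
  simp at this

/-- Polynomials agreeing on the lattice points are equal. -/
theorem eq_of_eval_nat {P Q : MvPolynomial (Fin r) ℚ}
    (h : ∀ n : Fin r → ℕ, MvPolynomial.eval (fun i => (n i : ℚ)) P = MvPolynomial.eval (fun i => (n i : ℚ)) Q) :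
    P = Q :=
  MvPolynomial.funext_set (fun _ => Set.range ((↑) : ℕ → ℚ))
    (fun _ => Set.infinite_range_of_injective Nat.cast_injective) fun x hx => by
      choose n hn using fun i => hx i (Set.mem_univ i)
      obtain rfl : (fun i => (n i : ℚ)) = x := funext hn
      exact h n

end Groth.Agent.Snapper
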