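import Groth.Agent.Snapper.Components
import Groth.Agent.AmpleDev.CurvesIn

/-!
# Euler characteristics of twists of direct images
-/

set_option linter.style.haveILetI false
set_option backward.isDefEq.respectTransparency false
set_option backward.isDefEq.respectTransparency.types false

universe u

open CategoryTheory CategoryTheory.Limits AlgebraicGeometry TopologicalSpace Opposite
open Groth.Agent.H23.PicMul

noncomputable section

namespace Groth.Agent.Snapper

open Groth.Agent

variable {X Z : Scheme.{u}}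

/-- Iterated twists commute with direct images. -/
theorem tensorPows_push (f : Z ⟶ X) (G : Z.Modules) : ∀ {r : ℕ} (L : Fin r → X.Modules),
    (∀ i, PicF.IsInvertible (L i)) → ∀ n : Fin r → ℕ,
    Nonempty (Curv2.tensorPows ((Coh.push f).obj G) r L n ≅
      (Coh.push f).obj (Curv2.tensorPows G r (fun i => (Scheme.Modules.pullback f).obj (L i)) n))
  | 0, _, _, _ => ⟨Iso.refl _⟩
  | r + 1, L, hL, n => by
    obtain ⟨e⟩ := tensorPows_push f G (fun i => L i.castSucc) (fun i => hL _) (fun i => n i.castSucc)
    let P := CohB1.tensorPow (L (Fin.last r)) (n (Fin.last r))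
    obtain ⟨e₁⟩ := AmpleDev.push_tensor_iso f (N := P) (InvX.isInvertible_tensorPow (hL _) _)
      (Curv2.tensorPows G r (fun i => (Scheme.Modules.pullback f).obj (L i.castSucc)) fun i => n i.castSucc)
    obtain ⟨e₂⟩ : Nonempty ((Scheme.Modules.pullback f).obj P ≅
        CohB1.tensorPow ((Scheme.Modules.pullback f).obj (L (Fin.last r))) (n (Fin.last r))) := cl_eq_iff.1 (by
      show PicF.pullCl f (PicF.cl P) = _
      rw [cl_tensorPow, cl_tensorPow, pullCl_pow]
      rfl)
    exact ⟨(AmpleVan.tw P).mapIso e ≪≫ e₁ ≪≫ (Coh.push f).mapIso (PicGrp.tensorModIso (Iso.refl _) e₂)⟩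

theorem isQCoh_tensorPows : ∀ {r : ℕ} (L : Fin r → Z.Modules), (∀ i, PicF.IsInvertible (L i)) →
    ∀ (n : Fin r → ℕ) {M : Z.Modules}, Coh.IsQCoh M → Coh.IsQCoh (Curv2.tensorPows M r L n)
  | 0, _, _, _, _, hM => hM
  | _ + 1, _, hL, _, _, hM => KFlatLib.isQCoh_tensor (isQCoh_tensorPows _ (fun _ => hL _) _ hM)
      (ProjUPX.isQCoh_of_isInvertible (InvX.isInvertible_tensorPow (hL _) _))

variable (k : Type u) [Field k] [X.Over (Spec (CommRingCat.of k))] [Z.Over (Spec (CommRingCat.of k))]

/-- Euler characteristics of the twists of a direct image along an affine morphism. -/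
theorem euler_tensorPows_push (f : Z ⟶ X) [IsAffineHom f]
    (hf : f ≫ (X ↘ Spec (CommRingCat.of k)) = Z ↘ Spec (CommRingCat.of k)) {G : Z.Modules} (hG : Coh.IsQCoh G)
    {r : ℕ} (L : Fin r → X.Modules) (hL : ∀ i, PicF.IsInvertible (L i)) (n : Fin r → ℕ) :
    Curv2.euler k X (Curv2.tensorPows ((Coh.push f).obj G) r L n) =
      Curv2.euler k Z (Curv2.tensorPows G r (fun i => (Scheme.Modules.pullback f).obj (L i)) n) := by
  rw [CurveCohLib.euler_congr (k := k) (tensorPows_push f G L hL n).some]
  exact AmpleDev.euler_push k f hf (isQCoh_tensorPows _ (fun i => PicClLib.isInvertible_pullback _ (hL i)) n hG)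

end Groth.Agent.Snapper
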